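import Groth.Agent.S7923
import Groth.Agent.Lib.H2Alg.PSHom
import Groth.Agent.Lib.ArtFun.PS
import Groth.Agent.Lib.CplLocH7.Basic
import Groth.Agent.Lib.FlatDepth.CplMap
import Groth.Agent.Lib.FlatDepth.CplQuot
import Groth.Agent.Lib.Cohen.Lift
import Groth.Agent.Lib.HfpH6.Hfp
import Mathlib

/-! # Normal form of the completion of an algebra with maximal ideal generated by `u, v` with `uv` small -/

set_option autoImplicit false
set_option linter.style.haveILetI false
universe u

open IsLocalRing

namespace Groth.Agent.NodeCpl1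

/-- Limits of adically Cauchy sequences. -/
theorem exists_limit {R : Type u} [CommRing R] (J : Ideal R) [IsAdicComplete J R] (s : ℕ → R)
    (h : ∀ n, s (n + 1) - s n ∈ J ^ (n + 1)) : ∃ L : R, ∀ n, L - s n ∈ J ^ (n + 1) := by
  have hle : ∀ {m n : ℕ}, m ≤ n → s n - s m ∈ J ^ m := by
    intro m n hmn
    induction n, hmn using Nat.le_induction with
    | base => simp
    | succ n hmn ih =>
      have := add_mem (Ideal.pow_le_pow_right (le_trans hmn n.le_succ) (h n)) ih
      rwa [sub_add_sub_cancel] at this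
  obtain ⟨L, hL⟩ := IsPrecomplete.prec (inferInstance : IsPrecomplete J R) (f := s) fun {m n} hmn => by
    rw [SModEq.sub_mem, smul_eq_mul, Ideal.mul_top, ← neg_sub]
    exact (Ideal.neg_mem_iff _).2 (hle hmn)
  refine ⟨L, fun n => ?_⟩
  have h1 := hL (n + 1)
  rw [SModEq.sub_mem, smul_eq_mul, Ideal.mul_top] at h1
  have := sub_mem (h n) h1
  rwa [show s (n + 1) - s n - (s (n + 1) - L) = L - s n by ring] at this

/-- Ideals of Noetherian local rings are closed. -/
theorem mem_of_forall_mem_sup_pow {R : Type u} [CommRing R] [IsLocalRing R] [IsNoetherianRing R]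
    (I : Ideal R) (x : R) (h : ∀ n, x ∈ I ⊔ maximalIdeal R ^ n) : x ∈ I := by
  by_cases hI : I = ⊤
  · rw [hI]; trivial
  haveI : Nontrivial (R ⧸ I) := Ideal.Quotient.nontrivial_iff.2 hI
  haveI : IsLocalRing (R ⧸ I) := IsLocalRing.of_surjective' (Ideal.Quotient.mk I) Ideal.Quotient.mk_surjective
  rw [← Ideal.Quotient.eq_zero_iff_mem]
  refine Cohen.eq_zero_of_mem_pow (maximalIdeal (R ⧸ I)) (maximalIdeal.isMaximal _).ne_top _ fun n => ?_
  have h1 := Ideal.mem_map_of_mem (Ideal.Quotient.mk I) (h n)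
  rwa [Ideal.map_sup, Ideal.map_quotient_self, bot_sup_eq, Ideal.map_pow,
    map_maximalIdeal_of_surjective _ Ideal.Quotient.mk_surjective] at h1

theorem isAdicComplete_cpl (A : Type u) [CommRing A] [IsLocalRing A] [IsNoetherianRing A] :
    IsAdicComplete (maximalIdeal (EGA4.Cpl A)) (EGA4.Cpl A) := by
  rw [CplLocH7.maximalIdeal_cpl]
  exact (IsAdicComplete.map_algebraMap_iff _ _).2 (AdicCompletion.isAdicComplete (IsNoetherian.noetherian _))

section Main

variable (A B : Type u) [CommRing A] [IsLocalRing A] [IsNoetherianRing A]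
  [CommRing B] [IsLocalRing B] [IsNoetherianRing B] [Algebra A B] [IsLocalHom (algebraMap A B)]
  [Algebra (EGA4.Cpl A) (EGA4.Cpl B)] [IsScalarTower A (EGA4.Cpl A) (EGA4.Cpl B)]

theorem exists_node_map (hres : Function.Bijective (IsLocalRing.ResidueField.map (algebraMap A B)))
    (u v : B) (hu : u ∈ maximalIdeal B) (hv : v ∈ maximalIdeal B)
    (huv : u * v ∈ (maximalIdeal A).map (algebraMap A B))
    (hgen : maximalIdeal B = Ideal.span {u, v} ⊔ (maximalIdeal A).map (algebraMap A B)) :
    ∃ α ∈ (maximalIdeal A).map (algebraMap A (EGA4.Cpl A)),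
    ∃ ψ : MvPowerSeries (Fin 2) (EGA4.Cpl A) →ₐ[EGA4.Cpl A] EGA4.Cpl B, Function.Surjective ψ ∧
      ψ (MvPowerSeries.X 0 * MvPowerSeries.X 1 - MvPowerSeries.C α) = 0 ∧
      ψ (MvPowerSeries.X 0) - algebraMap B (EGA4.Cpl B) u ∈ (maximalIdeal A).map (algebraMap A (EGA4.Cpl B)) ∧
      ψ (MvPowerSeries.X 1) - algebraMap B (EGA4.Cpl B) v ∈ (maximalIdeal A).map (algebraMap A (EGA4.Cpl B)) := by
  obtain ⟨us, vs, ε, h0, h0', hs⟩ := Groth.Agent.S7923.result A B hres u v hu hv huv hgen
  haveI := CplLocH7.isNoetherianRing_cpl A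
  haveI := CplLocH7.isNoetherianRing_cpl B
  haveI := isAdicComplete_cpl A
  haveI := isAdicComplete_cpl B
  let mh := maximalIdeal (EGA4.Cpl B)
  let i := algebraMap B (EGA4.Cpl B)
  let I : Ideal (EGA4.Cpl B) := (maximalIdeal A).map (algebraMap A (EGA4.Cpl B))
  have hi : ∀ (k : ℕ) (x : B), x ∈ (maximalIdeal A ^ k).map (algebraMap A B) → i x ∈ mh ^ k := by
    intro k x hx
    have h1 : (maximalIdeal A ^ k).map (algebraMap A B) ≤ maximalIdeal B ^ k := by
      rw [Ideal.map_pow]
      exact Ideal.pow_right_mono (le_sup_right.trans hgen.ge) k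
    exact (CplLocH7.mem_pow_iff k x).2 (h1 hx)
  have hI : ∀ x : B, x ∈ (maximalIdeal A).map (algebraMap A B) → i x ∈ I := fun x hx => by
    have := Ideal.mem_map_of_mem i hx
    rwa [Ideal.map_map, ← IsScalarTower.algebraMap_eq] at this
  obtain ⟨U, hU⟩ := exists_limit mh (fun n => i (us n)) fun n => by
    rw [← map_sub]; exact hi _ _ (hs n).2.2.2.1
  obtain ⟨V, hV⟩ := exists_limit mh (fun n => i (vs n)) fun n => by
    rw [← map_sub]; exact hi _ _ (hs n).2.2.2.2.1
  obtain ⟨E, hE⟩ := exists_limit (maximalIdeal (EGA4.Cpl A)) (fun n => algebraMap A (EGA4.Cpl A) (ε n)) fun n => by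
    rw [← map_sub]; exact (CplLocH7.mem_pow_iff _ _).2 (hs n).2.2.2.2.2.1
  have close : ∀ (w : ℕ → B) (w0 : B) (W : EGA4.Cpl B), w 0 = w0 →
      (∀ n, w (n + 1) - w n ∈ (maximalIdeal A ^ (n + 1)).map (algebraMap A B)) →
      (∀ n, W - i (w n) ∈ mh ^ (n + 1)) → W - i w0 ∈ I := by
    intro w w0 W hw hd hW
    have hwn : ∀ n, i (w n - w0) ∈ I := fun n => by
      induction n with
      | zero => simp [hw]
      | succ n ih =>
        have h1 := hI _ (Ideal.map_mono (Ideal.pow_le_self n.succ_ne_zero) (hd n))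
        have := add_mem h1 ih
        rwa [← map_add, sub_add_sub_cancel] at this
    refine mem_of_forall_mem_sup_pow I _ fun n => ?_
    have := add_mem (Submodule.mem_sup_right (Ideal.pow_le_pow_right n.le_succ (hW n)) : _ ∈ I ⊔ mh ^ n)
      (Submodule.mem_sup_left (hwn n))
    rwa [map_sub, sub_add_sub_cancel] at this
  have hEm : E ∈ maximalIdeal (EGA4.Cpl A) := by
    have h1 := hE 0
    rw [zero_add, pow_one] at h1
    have h2 : algebraMap A (EGA4.Cpl A) (ε 0) ∈ maximalIdeal (EGA4.Cpl A) := by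
      have := (CplLocH7.mem_pow_iff (A := A) 1 (ε 0)).2 (by rw [pow_one]; exact (hs 0).2.2.1)
      rwa [pow_one] at this
    have := add_mem h1 h2
    rwa [sub_add_cancel] at this
  have hUV : U * V - algebraMap (EGA4.Cpl A) (EGA4.Cpl B) E = 0 := by
    refine Cohen.eq_zero_of_mem_pow mh (maximalIdeal.isMaximal _).ne_top _ fun n => ?_
    refine Ideal.pow_le_pow_right n.le_succ ?_
    have hle : (maximalIdeal (EGA4.Cpl A)).map (algebraMap (EGA4.Cpl A) (EGA4.Cpl B)) ≤ mh := by
      rw [CplLocH7.maximalIdeal_cpl, Ideal.map_map, ← IsScalarTower.algebraMap_eq]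
      refine Ideal.map_le_iff_le_comap.2 fun a ha => ?_
      have := hi 1 (algebraMap A B a) (Ideal.mem_map_of_mem _ (by rwa [pow_one]))
      rwa [pow_one, ← IsScalarTower.algebraMap_apply] at this
    have h3 : algebraMap (EGA4.Cpl A) (EGA4.Cpl B) E - i (algebraMap A B (ε n)) ∈ mh ^ (n + 1) := by
      have h := Ideal.mem_map_of_mem (algebraMap (EGA4.Cpl A) (EGA4.Cpl B)) (hE n)
      rw [Ideal.map_pow] at h
      have h := Ideal.pow_right_mono hle _ h
      rwa [map_sub, ← IsScalarTower.algebraMap_apply, IsScalarTower.algebraMap_apply A B (EGA4.Cpl B)] at h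
    have h4 := hi _ _ (hs n).2.2.2.2.2.2
    rw [map_sub, map_mul] at h4
    have h5 : U * V - i (us n) * i (vs n) ∈ mh ^ (n + 1) := by
      rw [show U * V - i (us n) * i (vs n) = (U - i (us n)) * V + i (us n) * (V - i (vs n)) by ring]
      exact add_mem (Ideal.mul_mem_right _ _ (hU n)) (Ideal.mul_mem_left _ _ (hV n))
    have := sub_mem (add_mem h5 h4) h3
    convert this using 1
    ring
  have hUu : U - i u ∈ I := close us u U h0 (fun n => (hs n).2.2.2.1) hU
  have hVv : V - i v ∈ I := close vs v V h0' (fun n => (hs n).2.2.2.2.1) hV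
  have hIm : I ≤ mh := Ideal.map_le_iff_le_comap.2 fun a ha => by
    have := hi 1 (algebraMap A B a) (Ideal.mem_map_of_mem _ (by rwa [pow_one]))
    rwa [pow_one, ← IsScalarTower.algebraMap_apply] at this
  have hmem : ∀ (x : B) (W : EGA4.Cpl B), x ∈ maximalIdeal B → W - i x ∈ I → W ∈ mh := by
    intro x W hx hW
    have h1 : i x ∈ mh := by
      have := (CplLocH7.mem_pow_iff (A := B) 1 x).2 (by rwa [pow_one])
      rwa [pow_one] at this
    have := add_mem (hIm hW) h1
    rwa [sub_add_cancel] at this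
  obtain ⟨ψ, hψ⟩ := H2Alg.PSHom.exists_algHom (A := EGA4.Cpl A) mh ![U, V] (fun j => by
    fin_cases j
    · exact hmem u U hu hUu
    · exact hmem v V hv hVv)
  have e0 : ψ (MvPowerSeries.X 0) = U := hψ 0
  have e1 : ψ (MvPowerSeries.X 1) = V := hψ 1
  refine ⟨E, ?_, ψ, ?_, ?_, ?_, ?_⟩
  · rwa [← CplLocH7.maximalIdeal_cpl]
  · haveI := ArtFunLib.isAdicComplete_mvPowerSeries (A := EGA4.Cpl A) (n := 2)
    haveI : IsPrecomplete (maximalIdeal (MvPowerSeries (Fin 2) (EGA4.Cpl A))) (MvPowerSeries (Fin 2) (EGA4.Cpl A)) :=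
      inferInstance
    let M := maximalIdeal (MvPowerSeries (Fin 2) (EGA4.Cpl A))
    have hXm : ∀ j, (MvPowerSeries.X j : MvPowerSeries (Fin 2) (EGA4.Cpl A)) ∈ M := fun j => by
      rw [mem_maximalIdeal, mem_nonunits_iff, MvPowerSeries.isUnit_iff_constantCoeff, MvPowerSeries.constantCoeff_X]
      exact not_isUnit_zero
    have hmap : M.map ψ.toRingHom = mh := by
      refine le_antisymm ?_ ?_
      · refine Ideal.map_le_iff_le_comap.2 fun f hf => ?_
        show ψ f ∈ mh
        have hc : MvPowerSeries.constantCoeff f ∈ maximalIdeal (EGA4.Cpl A) := by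
          rw [mem_maximalIdeal, mem_nonunits_iff, MvPowerSeries.isUnit_iff_constantCoeff] at hf
          exact hf
        have h1 : f - MvPowerSeries.C (MvPowerSeries.constantCoeff f) ∈
            H2Alg.PSHom.V 2 (EGA4.Cpl A) ^ 1 := H2Alg.PSHom.mem_pow fun d hd => by
          rw [Nat.lt_one_iff, Finsupp.degree_eq_zero_iff] at hd
          subst hd
          simp
        rw [pow_one] at h1
        have h2 : (H2Alg.PSHom.V 2 (EGA4.Cpl A)).map ψ ≤ mh := by
          rw [H2Alg.PSHom.V, Ideal.map_span, Ideal.span_le]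
          rintro _ ⟨_, ⟨j, rfl⟩, rfl⟩
          fin_cases j
          · exact e0 ▸ hmem u U hu hUu
          · exact e1 ▸ hmem v V hv hVv
        have h3 : ψ (MvPowerSeries.C (MvPowerSeries.constantCoeff f)) ∈ mh := by
          rw [MvPowerSeries.c_eq_algebraMap, AlgHom.commutes]
          refine hIm ?_
          have := Ideal.mem_map_of_mem (algebraMap (EGA4.Cpl A) (EGA4.Cpl B)) hc
          rwa [CplLocH7.maximalIdeal_cpl, Ideal.map_map, ← IsScalarTower.algebraMap_eq] at this
        have := add_mem (h2 (Ideal.mem_map_of_mem _ h1)) h3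
        rwa [← map_add, sub_add_cancel] at this
      · have hIle : I ≤ M.map ψ.toRingHom := Ideal.map_le_iff_le_comap.2 fun a ha => by
          have hC : algebraMap (EGA4.Cpl A) (MvPowerSeries (Fin 2) (EGA4.Cpl A)) (algebraMap A (EGA4.Cpl A) a) ∈ M := by
            rw [← MvPowerSeries.c_eq_algebraMap, mem_maximalIdeal, mem_nonunits_iff,
              MvPowerSeries.isUnit_iff_constantCoeff, MvPowerSeries.constantCoeff_C]
            have := Ideal.mem_map_of_mem (algebraMap A (EGA4.Cpl A)) ha
            rw [← CplLocH7.maximalIdeal_cpl] at this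
            exact this
          have := Ideal.mem_map_of_mem ψ.toRingHom hC
          rw [AlgHom.toRingHom_eq_coe, RingHom.coe_coe, AlgHom.commutes, ← IsScalarTower.algebraMap_apply] at this
          exact this
        have hUle : U ∈ M.map ψ.toRingHom := e0 ▸ Ideal.mem_map_of_mem ψ.toRingHom (hXm 0)
        have hVle : V ∈ M.map ψ.toRingHom := e1 ▸ Ideal.mem_map_of_mem ψ.toRingHom (hXm 1)
        show maximalIdeal (EGA4.Cpl B) ≤ _
        refine (CplLocH7.maximalIdeal_cpl (A := B)).trans_le
          ((congrArg (Ideal.map (algebraMap B (EGA4.Cpl B))) hgen).trans_le ?_)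
        rw [Ideal.map_sup, Ideal.map_map, ← IsScalarTower.algebraMap_eq,
          Ideal.map_span, Set.image_pair]
        refine sup_le (Ideal.span_le.2 ?_) hIle
        rintro _ (rfl | rfl)
        · have := sub_mem hUle (hIle hUu)
          rwa [sub_sub_cancel] at this
        · have := sub_mem hVle (hIle hVv)
          rwa [sub_sub_cancel] at this
    haveI : IsHausdorff (M.map ψ.toRingHom) (EGA4.Cpl B) := by rw [hmap]; infer_instance
    refine surjective_of_mk_map_comp_surjective (I := M) (f := ψ.toRingHom) fun t => ?_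
    obtain ⟨t, rfl⟩ := Ideal.Quotient.mk_surjective t
    obtain ⟨b, hb⟩ := CplLocH7.exists_sub_mem_pow (A := B) 1 t
    rw [pow_one] at hb
    obtain ⟨c, hc⟩ := hres.2 (residue B b)
    obtain ⟨a, rfl⟩ := residue_surjective c
    refine ⟨algebraMap (EGA4.Cpl A) _ (algebraMap A (EGA4.Cpl A) a), ?_⟩
    show Ideal.Quotient.mk _ (ψ (algebraMap _ _ _)) = _
    rw [AlgHom.commutes, ← IsScalarTower.algebraMap_apply, Ideal.Quotient.eq, hmap]
    have h1 : algebraMap A B a - b ∈ maximalIdeal B := by
      rw [← Ideal.Quotient.eq]; exact hc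
    have h2 : i (algebraMap A B a - b) ∈ mh := by
      have := (CplLocH7.mem_pow_iff (A := B) 1 _).2 (by rwa [pow_one])
      rwa [pow_one] at this
    rw [map_sub, ← IsScalarTower.algebraMap_apply] at h2
    have := sub_mem h2 hb
    rwa [show algebraMap A (EGA4.Cpl B) a - i b - (t - i b) = algebraMap A (EGA4.Cpl B) a - t by ring] at this
  · rw [map_sub, map_mul, e0, e1, MvPowerSeries.c_eq_algebraMap, AlgHom.commutes, hUV]
  · rw [e0]; exact hUu
  · rw [e1]; exact hVv

end Main

/-- A surjective endomorphism of a Noetherian ring is injective. -/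
theorem injective_of_surjective_endo {R : Type u} [CommRing R] [IsNoetherianRing R] (f : R →+* R)
    (hf : Function.Surjective f) : Function.Injective f := by
  let g : ℕ → R → R := fun n => f^[n]
  have hz : ∀ n, g n 0 = 0 := fun n => Function.iterate_fixed (map_zero f) n
  have hadd : ∀ n x y, g n (x + y) = g n x + g n y := fun n => by
    induction n with
    | zero => intros; rfl
    | succ n ih => intro x y; simp only [g, Function.iterate_succ_apply', ← map_add]; exact congrArg f (ih x y)
  have hmul : ∀ n x y, g n (x * y) = g n x * g n y := fun n => by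
    induction n with
    | zero => intros; rfl
    | succ n ih => intro x y; simp only [g, Function.iterate_succ_apply', ← map_mul]; exact congrArg f (ih x y)
  let K : ℕ →o Ideal R :=
    { toFun := fun n =>
        { carrier := {x | g n x = 0}
          zero_mem' := hz n
          add_mem' := fun {x y} hx hy => by simp only [Set.mem_setOf_eq] at *; rw [hadd, hx, hy, add_zero]
          smul_mem' := fun r x hx => by simp only [Set.mem_setOf_eq, smul_eq_mul] at *; rw [hmul, hx, mul_zero] }
      monotone' := monotone_nat_of_le_succ fun n x hx => by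
        show g (n + 1) x = 0
        simp only [g, Function.iterate_succ_apply'] at *
        rw [show f^[n] x = 0 from hx, map_zero] }
  obtain ⟨N, hN⟩ := monotone_stabilizes_iff_noetherian.2 inferInstance K
  refine (injective_iff_map_eq_zero f).2 fun x hx => ?_
  obtain ⟨y, rfl⟩ := hf.iterate N x
  have h1 : y ∈ K (N + 1) := by
    show g (N + 1) y = 0
    simp only [g, Function.iterate_succ_apply']
    exact hx
  rw [← hN (N + 1) N.le_succ] at h1
  exact h1

theorem ker_map_powerSeries {A k : Type u} [CommRing A] [CommRing k] {σ : Type} [Finite σ] (φ : A →+* k)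
    {s : Finset A} (hs : Ideal.span (s : Set A) = RingHom.ker φ) :
    RingHom.ker (MvPowerSeries.map (σ := σ) φ) = (RingHom.ker φ).map MvPowerSeries.C := by
  classical
  refine le_antisymm (fun f hf => ?_) (Ideal.map_le_iff_le_comap.2 fun a ha => ?_)
  · have hc : ∀ d, ∃ c : A → A, ∑ a ∈ s, c a * a = MvPowerSeries.coeff d f := fun d => by
      have h1 : MvPowerSeries.coeff d f ∈ RingHom.ker φ := by
        rw [RingHom.mem_ker, ← MvPowerSeries.coeff_map, RingHom.mem_ker.1 hf, map_zero]
      rw [← hs] at h1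
      obtain ⟨c, -, hc⟩ := Submodule.mem_span_finset.1 h1
      exact ⟨c, hc⟩
    choose c hc using hc
    let cf : A → MvPowerSeries σ A := fun a d => c d a
    have e : f = ∑ a ∈ s, MvPowerSeries.C a * cf a := by
      ext d
      rw [map_sum, ← hc d]
      exact Finset.sum_congr rfl fun a _ => by rw [MvPowerSeries.coeff_C_mul, mul_comm]; rfl
    rw [e]
    exact Ideal.sum_mem _ fun a ha => Ideal.mul_mem_right _ _ (Ideal.mem_map_of_mem _ (hs ▸ Ideal.subset_span ha))
  · rw [Ideal.mem_comap, RingHom.mem_ker, MvPowerSeries.map_C, RingHom.mem_ker.1 ha, map_zero]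

end Groth.Agent.NodeCpl1
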