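import Groth.Agent.Lib.NodeCpl1.Basic
import Mathlib

/-! # The flat case of the node normal form -/

set_option autoImplicit false
set_option linter.style.haveILetI false
universe u

open IsLocalRing

namespace Groth.Agent.NodeCpl1

variable (A B : Type u) [CommRing A] [IsLocalRing A] [IsNoetherianRing A]
  [CommRing B] [IsLocalRing B] [IsNoetherianRing B] [Algebra A B] [IsLocalHom (algebraMap A B)]

theorem cpl_transport {B0 R0 : Type u} [CommRing B0] [IsLocalRing B0] [CommRing R0] (J : Ideal B0)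
    (hJ : J = maximalIdeal B0) (e : AdicCompletion J B0 ≃+* R0) : Nonempty (EGA4.Cpl B0 ≃+* R0) := by
  subst hJ
  exact ⟨e⟩

set_option backward.isDefEq.respectTransparency false in
theorem ker_quot_map {P S : Type u} [CommRing P] [CommRing S] (π₀ : P →+* S) (hπ : Function.Surjective π₀)
    (a : P) (b : S) (hab : π₀ a = b) :
    ∃ π : P ⧸ Ideal.span {a} →+* S ⧸ Ideal.span {b}, Function.Surjective π ∧
      RingHom.ker π = (RingHom.ker π₀).map (Ideal.Quotient.mk (Ideal.span {a})) := by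
  have hle : Ideal.span {a} ≤ (Ideal.span {b}).comap π₀ := by
    rw [Ideal.span_le, Set.singleton_subset_iff, SetLike.mem_coe, Ideal.mem_comap, hab]
    exact Ideal.mem_span_singleton_self _
  refine ⟨Ideal.quotientMap _ π₀ hle, Ideal.quotientMap_surjective hπ, ?_⟩
  have h1 : RingHom.ker (Ideal.quotientMap (Ideal.span {b}) π₀ hle) =
      ((Ideal.span {b}).comap π₀).map (Ideal.Quotient.mk (Ideal.span {a})) := by
    ext x
    obtain ⟨x, rfl⟩ := Ideal.Quotient.mk_surjective x
    rw [RingHom.mem_ker, Ideal.quotientMap_mk, Ideal.Quotient.eq_zero_iff_mem,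
      ← Ideal.mem_comap (f := Ideal.Quotient.mk (Ideal.span {a})),
      Ideal.comap_map_of_surjective _ Ideal.Quotient.mk_surjective, ← RingHom.ker_eq_comap_bot, Ideal.mk_ker,
      sup_eq_left.2 hle, Ideal.mem_comap]
  rw [h1, show Ideal.span {b} = (Ideal.span {a}).map π₀ by rw [Ideal.map_span, Set.image_singleton, hab],
    Ideal.comap_map_of_surjective _ hπ, ← RingHom.ker_eq_comap_bot, Ideal.map_sup, Ideal.map_quotient_self,
    bot_sup_eq]

theorem map_quot_composite {A' P : Type u} [CommRing A] [CommRing A'] [CommRing P] (f : A →+* A') (g : A' →+* P)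
    (I : Ideal A) (a : P) (m : A →+* P ⧸ Ideal.span {a}) (hm : m = (Ideal.Quotient.mk _).comp (g.comp f)) :
    I.map m = ((I.map f).map g).map (Ideal.Quotient.mk (Ideal.span {a})) := by
  rw [Ideal.map_map, Ideal.map_map, hm, RingHom.comp_assoc]

theorem exists_node_equiv (hres : Function.Bijective (IsLocalRing.ResidueField.map (algebraMap A B)))
    (u v : B) (hu : u ∈ maximalIdeal B) (hv : v ∈ maximalIdeal B)
    (huv : u * v ∈ (maximalIdeal A).map (algebraMap A B))
    (hgen : maximalIdeal B = Ideal.span {u, v} ⊔ (maximalIdeal A).map (algebraMap A B)) [Module.Flat A B]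
    (e : AdicCompletion ((IsLocalRing.maximalIdeal B).map (Ideal.Quotient.mk
          ((IsLocalRing.maximalIdeal A).map (algebraMap A B))))
          (B ⧸ (IsLocalRing.maximalIdeal A).map (algebraMap A B)) ≃+*
        (MvPowerSeries (Fin 2) (IsLocalRing.ResidueField A) ⧸
          Ideal.span {(MvPowerSeries.X 0 * MvPowerSeries.X 1 : MvPowerSeries (Fin 2) (IsLocalRing.ResidueField A))})) :
    ∃ α ∈ (maximalIdeal A).map (algebraMap A (EGA4.Cpl A)),
    ∃ ψ : (MvPowerSeries (Fin 2) (EGA4.Cpl A) ⧸ Ideal.span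
        {(MvPowerSeries.X 0 * MvPowerSeries.X 1 - MvPowerSeries.C α : MvPowerSeries (Fin 2) (EGA4.Cpl A))}) →ₐ[A]
        EGA4.Cpl B, Function.Bijective ψ ∧
      ψ (Ideal.Quotient.mk _ (MvPowerSeries.X 0)) - algebraMap B (EGA4.Cpl B) u ∈
        (maximalIdeal A).map (algebraMap A (EGA4.Cpl B)) ∧
      ψ (Ideal.Quotient.mk _ (MvPowerSeries.X 1)) - algebraMap B (EGA4.Cpl B) v ∈
        (maximalIdeal A).map (algebraMap A (EGA4.Cpl B)) := by
  obtain ⟨inst, htow, -⟩ := FlatDepth.exists_cpl_tower A B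
  letI := inst
  haveI : IsScalarTower A (EGA4.Cpl A) (EGA4.Cpl B) := htow
  haveI := CplLocH7.isNoetherianRing_cpl A
  haveI := CplLocH7.isNoetherianRing_cpl B
  haveI := CplLocH7.faithfullyFlat_cpl B
  haveI : Module.Flat A (EGA4.Cpl B) := Module.Flat.trans A B (EGA4.Cpl B)
  obtain ⟨α, hα, ψ₁, hs, h0, hX, hY⟩ := exists_node_map A B hres u v hu hv huv hgen
  let a : MvPowerSeries (Fin 2) (EGA4.Cpl A) :=
    MvPowerSeries.X 0 * MvPowerSeries.X 1 - MvPowerSeries.C α
  let ψ : (MvPowerSeries (Fin 2) (EGA4.Cpl A) ⧸ Ideal.span {a}) →ₐ[A] EGA4.Cpl B :=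
    Ideal.Quotient.liftₐ _ (ψ₁.restrictScalars A) (fun x hx => by
      obtain ⟨c, rfl⟩ := Ideal.mem_span_singleton'.1 hx
      show ψ₁ (c * _) = 0
      rw [map_mul, h0, mul_zero])
  have hsurj : Function.Surjective ψ := fun y => by
    obtain ⟨x, rfl⟩ := hs y
    exact ⟨Ideal.Quotient.mk _ x, rfl⟩
  refine ⟨α, hα, ψ, ⟨?_, hsurj⟩, hX, hY⟩
  -- reduction modulo the maximal ideal of `A`
  let resh : EGA4.Cpl A →+* ResidueField A := (AdicCompletion.evalOneₐ (maximalIdeal A)).toRingHom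
  have hresh_s : Function.Surjective resh := fun z => by
    obtain ⟨x, rfl⟩ := residue_surjective z
    exact ⟨algebraMap A (EGA4.Cpl A) x, (AdicCompletion.evalOneₐ (maximalIdeal A)).commutes x⟩
  have hresh_k : RingHom.ker resh = (maximalIdeal A).map (algebraMap A (EGA4.Cpl A)) := by
    refine le_antisymm ?_ ?_
    · rw [← CplLocH7.maximalIdeal_cpl]; exact le_maximalIdeal (RingHom.ker_ne_top _)
    · refine Ideal.map_le_iff_le_comap.2 fun x hx => ?_
      show AdicCompletion.evalOneₐ (maximalIdeal A) (algebraMap A (EGA4.Cpl A) x) = 0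
      rw [AlgHom.commutes]
      exact Ideal.Quotient.eq_zero_iff_mem.2 hx
  let π₀ := MvPowerSeries.map (σ := Fin 2) resh
  have hπ₀ : Function.Surjective π₀ := fun f => by
    choose g hg using fun d => hresh_s (MvPowerSeries.coeff d f)
    exact ⟨fun d => g d, MvPowerSeries.ext fun d => by rw [MvPowerSeries.coeff_map]; exact hg d⟩
  obtain ⟨s, hspan⟩ := (IsNoetherian.noetherian (RingHom.ker resh) : (RingHom.ker resh).FG)
  have hk₀ : RingHom.ker π₀ = ((maximalIdeal A).map (algebraMap A (EGA4.Cpl A))).map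
      (algebraMap (EGA4.Cpl A) (MvPowerSeries (Fin 2) (EGA4.Cpl A))) := by
    rw [← hresh_k, ← MvPowerSeries.c_eq_algebraMap]
    exact ker_map_powerSeries resh hspan
  have hab : π₀ a = MvPowerSeries.X 0 * MvPowerSeries.X 1 := by
    have hα0 : resh α = 0 := RingHom.mem_ker.1 (hresh_k ▸ hα)
    simp only [a, π₀, map_sub, map_mul, MvPowerSeries.map_X, MvPowerSeries.map_C, hα0, map_zero, sub_zero]
  obtain ⟨π, hπs, hπk⟩ := ker_quot_map π₀ hπ₀ a _ hab
  have hmR : RingHom.ker π = (maximalIdeal A).map (algebraMap A (MvPowerSeries (Fin 2) (EGA4.Cpl A) ⧸ Ideal.span {a})) := by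
    rw [hπk, hk₀]
    refine (map_quot_composite A _ _ _ a _ (RingHom.ext fun x => ?_)).symm
    refine (IsScalarTower.algebraMap_apply A (MvPowerSeries (Fin 2) (EGA4.Cpl A))
      (MvPowerSeries (Fin 2) (EGA4.Cpl A) ⧸ Ideal.span {a}) x).trans ?_
    exact congrArg _ (IsScalarTower.algebraMap_apply A (EGA4.Cpl A) (MvPowerSeries (Fin 2) (EGA4.Cpl A)) x)
  -- the closed fibre
  let J : Ideal B := (maximalIdeal A).map (algebraMap A B)
  have hJ : J ≤ maximalIdeal B := le_sup_right.trans hgen.ge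
  haveI : Nontrivial (B ⧸ J) := Ideal.Quotient.nontrivial_iff.2 (ne_top_of_le_ne_top (maximalIdeal.isMaximal B).ne_top hJ)
  haveI : IsLocalRing (B ⧸ J) := IsLocalRing.of_surjective' (Ideal.Quotient.mk J) Ideal.Quotient.mk_surjective
  obtain ⟨e'⟩ := cpl_transport _ (map_maximalIdeal_of_surjective (Ideal.Quotient.mk J) Ideal.Quotient.mk_surjective) e
  let q := FlatDepth.cplQuotHom B (B ⧸ J) Ideal.Quotient.mk_surjective
  let g : (MvPowerSeries (Fin 2) (EGA4.Cpl A) ⧸ Ideal.span {a}) →+*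
      (MvPowerSeries (Fin 2) (ResidueField A) ⧸
        Ideal.span {(MvPowerSeries.X 0 * MvPowerSeries.X 1 : MvPowerSeries (Fin 2) (ResidueField A))}) :=
    e'.toRingHom.comp (q.comp ψ.toRingHom)
  have hgs : Function.Surjective g := e'.surjective.comp
    ((FlatDepth.cplQuotHom_surjective B (B ⧸ J) Ideal.Quotient.mk_surjective).comp hsurj)
  have hgk : RingHom.ker π ≤ RingHom.ker g := by
    rw [hmR]
    refine Ideal.map_le_iff_le_comap.2 fun x hx => ?_
    show e' (q (ψ (algebraMap A _ x))) = 0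
    rw [AlgHom.commutes, IsScalarTower.algebraMap_apply A B (EGA4.Cpl B), map_eq_zero_iff _ e'.injective]
    show FlatDepth.cplQuotHom B (B ⧸ J) _ _ = 0
    rw [FlatDepth.cplQuotHom_algebraMap, IsScalarTower.algebraMap_apply B (B ⧸ J) (EGA4.Cpl (B ⧸ J))]
    show algebraMap _ _ (Ideal.Quotient.mk J (algebraMap A B x)) = 0
    rw [Ideal.Quotient.eq_zero_iff_mem.2 (Ideal.mem_map_of_mem _ hx), map_zero]
  haveI : Nontrivial (MvPowerSeries (Fin 2) (ResidueField A) ⧸
      Ideal.span {(MvPowerSeries.X 0 * MvPowerSeries.X 1 : MvPowerSeries (Fin 2) (ResidueField A))}) := by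
    refine Ideal.Quotient.nontrivial_iff.2 fun h => ?_
    rw [Ideal.span_singleton_eq_top, MvPowerSeries.isUnit_iff_constantCoeff, map_mul,
      MvPowerSeries.constantCoeff_X, zero_mul] at h
    exact not_isUnit_zero h
  let g₀ := π.liftOfSurjective hπs ⟨g, hgk⟩
  have hg₀ : ∀ x, g₀ (π x) = g x := fun x => RingHom.liftOfRightInverse_comp_apply _ _ _ ⟨g, hgk⟩ x
  have hinj := injective_of_surjective_endo g₀ fun y => by
    obtain ⟨x, rfl⟩ := hgs y
    exact ⟨π x, hg₀ x⟩
  have hker : RingHom.ker ψ.toRingHom ≤ RingHom.ker π := fun x hx => by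
    have hx' : ψ x = 0 := hx
    apply hinj
    rw [hg₀, map_zero]
    show e' (q (ψ x)) = 0
    rw [hx', map_zero, map_zero]
  haveI : Nontrivial (MvPowerSeries (Fin 2) (EGA4.Cpl A) ⧸ Ideal.span {a}) := ψ.toRingHom.domain_nontrivial
  haveI : IsLocalRing (MvPowerSeries (Fin 2) (EGA4.Cpl A) ⧸ Ideal.span {a}) :=
    IsLocalRing.of_surjective' (Ideal.Quotient.mk _) Ideal.Quotient.mk_surjective
  have hbot : RingHom.ker ψ.toRingHom = ⊥ := by
    refine Submodule.eq_bot_of_le_smul_of_le_jacobson_bot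
      ((maximalIdeal A).map (algebraMap A (MvPowerSeries (Fin 2) (EGA4.Cpl A) ⧸ Ideal.span {a})))
      _ (IsNoetherian.noetherian _) (fun x hx => ?_) ?_
    · exact HfpH6.mem_map_mul_ker_of_flat (maximalIdeal A) ψ hsurj x hx (hmR ▸ hker hx)
    · refine le_trans ?_ (IsLocalRing.jacobson_eq_maximalIdeal _ bot_ne_top).ge
      rw [← hmR]
      exact le_maximalIdeal (RingHom.ker_ne_top _)
  exact (RingHom.injective_iff_ker_eq_bot ψ.toRingHom).2 hbot

end Groth.Agent.NodeCpl1
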